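import Cfsg.Agent.H813.NonCyc
import Cfsg.Agent.H357.Sp.Gen
import Cfsg.Agent.H55.OutGen
import Cfsg.Agent.S2068

/-!
# `J4` is not the top of a group with the spectrum of `Alt n`, `43 ≤ n ≤ 46` (helper161, task 2443 of TEAM SPEC-ALT)
-/

set_option autoImplicit false

namespace Cfsg.Agent.H161.SpAlt

open Cfsg Subgroup Cfsg.Agent.H357.Sp Cfsg.Agent.H357.Sp.Gen Cfsg.Agent.H102.SpCent

/-- a sporadic group (or the Tits group) of the order of `J4` is `J4` -/
theorem isoJ4_of_card {S : Type*} [Group S] (h : IsSporadicGroup S ∨ Lie.IsoTits S) (hc : Nat.card S = cJ4) :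
    Spor.IsoJ4 S := by
  rcases h with (h | h | h | h | h | h | h | h | h | h | h | h | h | h | h | h | h | h | h | h | h | h | h | h | h | h) | h
  · rw [NotCT.Orders.m11 h] at hc; exact absurd hc (by decide +kernel)
  · rw [NotCT.Orders.m12 h] at hc; exact absurd hc (by decide +kernel)
  · rw [NotCT.Orders.m22 h] at hc; exact absurd hc (by decide +kernel)
  · rw [NotCT.Orders.m23 h] at hc; exact absurd hc (by decide +kernel)
  · rw [NotCT.Orders.m24 h] at hc; exact absurd hc (by decide +kernel)
  · rw [NotCT.Orders.j1 h] at hc; exact absurd hc (by decide +kernel)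
  · rw [NotCT.Orders.j2 h] at hc; exact absurd hc (by decide +kernel)
  · rw [NotCT.Orders.j3 h] at hc; exact absurd hc (by decide +kernel)
  · exact h
  · rw [NotCT.Orders.co1 h] at hc; exact absurd hc (by decide +kernel)
  · rw [NotCT.Orders.co2 h] at hc; exact absurd hc (by decide +kernel)
  · rw [NotCT.Orders.co3 h] at hc; exact absurd hc (by decide +kernel)
  · rw [NotCT.Orders.mcl h] at hc; exact absurd hc (by decide +kernel)
  · rw [NotCT.Orders.hs h] at hc; exact absurd hc (by decide +kernel)
  · rw [NotCT.Orders.suz h] at hc; exact absurd hc (by decide +kernel)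
  · rw [NotCT.Orders.he h] at hc; exact absurd hc (by decide +kernel)
  · rw [NotCT.Orders.ru h] at hc; exact absurd hc (by decide +kernel)
  · rw [NotCT.Orders.on h] at hc; exact absurd hc (by decide +kernel)
  · rw [NotCT.Orders.ly h] at hc; exact absurd hc (by decide +kernel)
  · rw [NotCT.Orders.fi22 h] at hc; exact absurd hc (by decide +kernel)
  · rw [NotCT.Orders.fi23 h] at hc; exact absurd hc (by decide +kernel)
  · rw [NotCT.Orders.fi24 h] at hc; exact absurd hc (by decide +kernel)
  · rw [NotCT.Orders.hn h] at hc; exact absurd hc (by decide +kernel)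
  · rw [NotCT.Orders.th h] at hc; exact absurd hc (by decide +kernel)
  · rw [NotCT.Orders.b h] at hc; exact absurd hc (by decide +kernel)
  · rw [NotCT.Orders.m h] at hc; exact absurd hc (by decide +kernel)
  · rw [NotCT.Orders.tits h] at hc; exact absurd hc (by decide +kernel)

/-- the automorphism group of `J4` -/
theorem card_mulAut {S : Type*} [Group S] [Finite S] [IsSimpleGroup S] (hnc : ¬ IsMulCommutative S) (h : Spor.IsoJ4 S)
    (hc : Nat.card S = cJ4) : Nat.card (MulAut S) = cJ4 := by
  obtain ⟨e⟩ := h
  have h1 : (MulAut.conj : S →* MulAut S).range.index = 1 := by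
    rw [← H55.OutGen.card_out_eq_index, H55.OutGen.card_out_congr e, S2068.result]
  have hcen : center S = ⊥ := by
    refine (Subgroup.Normal.eq_bot_or_eq_top (inferInstance : (center S).Normal)).resolve_right fun htop => hnc ?_
    refine ⟨⟨fun a b => ?_⟩⟩
    have : a ∈ center S := by rw [htop]; exact mem_top a
    exact (mem_center_iff.1 this b).symm
  have hinj : Function.Injective (MulAut.conj : S →* MulAut S) := by
    rw [injective_iff_map_eq_one]
    intro a ha
    have h3 : a ∈ center S := by
      rw [mem_center_iff]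
      intro b
      have h4 : MulAut.conj a b = b := by rw [ha]; rfl
      rw [MulAut.conj_apply] at h4
      exact (mul_inv_eq_iff_eq_mul.1 h4).symm
    rwa [hcen, mem_bot] at h3
  have h2 := card_mul_index (MulAut.conj : S →* MulAut S).range
  rw [h1, mul_one, ← Nat.card_congr (MonoidHom.ofInjective hinj).toEquiv, hc] at h2
  exact h2.symm

/-- **`J4` does not occur** (`43 ≤ n ≤ 46`): an element of order `11 · 41`. -/
theorem no_J4_of (hS : ∀ (S : Type) [Group S] [Finite S] [IsSimpleGroup S], IsKnownSimple' S) {ε n : ℕ} {G : Type}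
    [Group G] [Finite G] (h : Spec ε n G) (h43 : 43 ≤ n) (h46 : n ≤ 46) {K : Subgroup G} [K.Normal]
    {M : Subgroup (G ⧸ K)} [M.Normal] [IsSimpleGroup ↥M] (hnc : ¬ IsMulCommutative ↥M) (hcard : Nat.card ↥M = cJ4) :
    False := by
  have hB := spec_bnd h
  have hBM : Bnd n ↥M := bnd_sub (bnd_quot hB) M
  have hc : ¬ IsPrimeCyclic ↥M := by
    intro h0
    have h0 : (Nat.card ↥M).Prime := h0
    have := Fact.mk h0
    have hcyc : IsCyclic ↥M := isCyclic_of_prime_card (p := Nat.card ↥M) rfl
    exact hnc hcyc.isMulCommutative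
  have hJ : Spor.IsoJ4 ↥M := by
    rcases H912.Known.known_split (hS ↥M) hc with h4 | ⟨r, hr, h4⟩ | h4
    · exfalso
      obtain ⟨m, hm5, ⟨e⟩⟩ := h4
      have h5 : Nat.card (alternatingGroup (Fin m)) = cJ4 := by rw [← hcard, Nat.card_congr e.toEquiv]
      have h6 : 2 * Nat.card (alternatingGroup (Fin m)) = m.factorial := by
        have : Nontrivial (Fin m) := Fin.nontrivial_iff_two_le.2 (by omega)
        rw [Nat.card_eq_fintype_card, two_mul_card_alternatingGroup, Fintype.card_perm, Fintype.card_fin]
      rw [h5] at h6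
      have h43p : Nat.Prime 43 := by norm_num
      have h41p : Nat.Prime 41 := by norm_num
      have h7 : 43 ∣ m.factorial := by rw [← h6]; decide +kernel
      have h8 : 41 ∣ m.factorial := h41p.dvd_factorial.2 (by have := h43p.dvd_factorial.1 h7; omega)
      rw [← h6] at h8
      exact absurd h8 (by decide +kernel)
    · exfalso
      refine H149.Sa.no_lie_small (by omega : 29 ≤ n) (by omega) hr (H414.LieShape.shape_of_lie hr h4)
        (fun p hp hd => le_of_bnd hBM hp hd) 41 ?_
      intro p hp hp41
      obtain ⟨h5, h6, h7⟩ := mem_T.1 hp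
      rw [hcard]
      have h8 : 21 < p := by omega
      have h9 : p ≤ 46 := by omega
      interval_cases p <;> first | decide +kernel | (exact absurd rfl hp41) | (exfalso; revert h7; norm_num; done)
    · exact isoJ4_of_card h4.symm hcard
  have hA := card_mulAut hnc hJ hcard
  have hn121 : ¬ ∃ x : G, orderOf x = 11 ^ 2 := by
    rintro ⟨x, hx⟩
    have h1 := hB x
    rw [hx, H267.Sp.SpecAlt.W_pow (by norm_num) (by norm_num)] at h1
    omega
  obtain ⟨x, hx⟩ := H813.NonCyc.adj_of_section_aut (K := K) (M := M) (t := 41) (s := 11) (by norm_num) (by norm_num)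
    (by norm_num) (by norm_num)
    (by
      obtain ⟨y, hy⟩ := exists_x h (show Nat.Prime 41 by norm_num) (by norm_num) (by omega)
      rw [← hy]
      exact orderOf_dvd_natCard y)
    (by rw [hA]; decide +kernel) (by rw [hcard]; decide +kernel) hn121
  have h1 := hB x
  rw [hx, W_mul (by norm_num), W_prime (by norm_num), W_prime (by norm_num)] at h1
  omega

end Cfsg.Agent.H161.SpAlt
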